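import Cfsg.Agent.ChevalleyStructure.CoxeterWordCheck
import Cfsg.Agent.Fischer.ZCentral
import Cfsg.Agent.R01.Lifts
import Cfsg.Agent.KFacts.MulBaer
import Cfsg.Prelude.Def_Spor_Fi22
set_option linter.all false

-- merged: Cfsg.Agent.KFacts.MulEven.Cox9
section

/-!
Consequences of the Coxeter relations of the diagram `Y₃₃₂` and the spider relation, for an arbitrary group `G` with
elements `s 0, …, s 8` (printed `a, …, i`; centre `d = s 3`; arms `c b a = s 2, s 1, s 0`, `e f g = s 4, s 5, s 6`,
`h i = s 7, s 8`).  This is `TwoESix.Cox10` without the last node.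
-/

set_option autoImplicit false

namespace Cfsg.Agent.KFacts.MulEven.Cox9

open Cfsg.Agent.ChevalleyStructure.CoxeterGeom Cfsg.Agent.ChevalleyStructure.CoxeterWordCheck

/-- Adjacency in the diagram `Y₃₃₂`. -/
def adj (i j : Fin 9) : Bool :=
  ([(0, 1), (1, 2), (2, 3), (3, 4), (4, 5), (5, 6), (3, 7), (7, 8)] : List (Fin 9 × Fin 9)).any
    fun e => (e.1 == i && e.2 == j) || (e.1 == j && e.2 == i)

/-- The labels. -/
def lab (i j : Fin 9) : ℕ := if i = j then 1 else if adj i j then 3 else 2

theorem lab_symm : ∀ i j : Fin 9, lab j i = lab i j := by decide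

theorem lab_diag : ∀ i : Fin 9, lab i i = 1 := by decide

theorem lab_off : ∀ i j : Fin 9, i ≠ j → lab i j ≠ 1 := by decide

theorem lab_cases : ∀ i j : Fin 9, lab i j = 1 ∧ i = j ∨ lab i j = 2 ∨ lab i j = 3 := by decide

/-- The Coxeter matrix of `Y₃₃₂`. -/
def M9 : CoxeterMatrix (Fin 9) where
  M := Matrix.of lab
  isSymm := Matrix.IsSymm.ext fun i j => lab_symm i j
  diagonal := lab_diag
  off_diagonal := lab_off

theorem M9_apply (i j : Fin 9) : M9 i j = lab i j := rfl

/-- The Cartan matrix of `Y₃₃₂`. -/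
def A9 (i j : Fin 9) : ℤ := if i = j then 2 else if adj i j then -1 else 0

theorem A9_diag : ∀ i : Fin 9, A9 i i = 2 := by decide

theorem A9_rel : ∀ i j : Fin 9, i ≠ j → (lab i j = 2 ∧ A9 i j = 0 ∧ A9 j i = 0) ∨
    (lab i j = 3 ∧ A9 i j = -1 ∧ A9 j i = -1) := by decide

theorem isCartan : IsCartan M9 A9 where
  diag := A9_diag
  rel i j hij := by
    rcases A9_rel i j hij with h | h
    · exact Or.inl h
    · exact Or.inr (Or.inl h)

variable {G : Type*} [Group G]

/-- Value of a word. -/
def ev (s : Fin 9 → G) (w : List (Fin 9)) : G := (w.map s).prod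

theorem ev_append (s : Fin 9 → G) (v w : List (Fin 9)) : ev s (v ++ w) = ev s v * ev s w := by
  rw [ev, ev, ev, List.map_append, List.prod_append]

theorem ev_nil (s : Fin 9 → G) : ev s [] = 1 := rfl

theorem ev_cons (s : Fin 9 → G) (i : Fin 9) (w : List (Fin 9)) : ev s (i :: w) = s i * ev s w := by
  rw [ev, ev, List.map_cons, List.prod_cons]

theorem ev_map {H : Type*} [Group H] (f : G →* H) (s : Fin 9 → G) (w : List (Fin 9)) :
    f (ev s w) = ev (fun i => f (s i)) w := by
  rw [ev, ev, map_list_prod, List.map_map]; rfl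

/-- `k`-fold repetition of a word. -/
def rep (k : ℕ) (w : List (Fin 9)) : List (Fin 9) := (List.replicate k w).flatten

theorem ev_rep (s : Fin 9 → G) (k : ℕ) (w : List (Fin 9)) : ev s (rep k w) = ev s w ^ k := by
  induction k with
  | zero => simp [rep, ev_nil]
  | succ k ih =>
    rw [rep, List.replicate_succ, List.flatten_cons, ev_append, ← rep, ih, pow_succ']

variable {s : Fin 9 → G}

theorem sq (hs : M9.IsLiftable s) (i : Fin 9) : s i * s i = 1 := by
  have := hs i i
  rwa [M9.diagonal, pow_one] at this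

theorem ev_reverse (hs : M9.IsLiftable s) (w : List (Fin 9)) : ev s w.reverse = (ev s w)⁻¹ := by
  induction w with
  | nil => simp [ev_nil]
  | cons i w ih =>
    rw [List.reverse_cons, ev_append, ih, ev_cons, ev_cons, ev_nil, mul_one, mul_inv_rev,
      inv_eq_of_mul_eq_one_left (sq hs i)]

/-- The homomorphism from the Coxeter group. -/
theorem ev_eq_lift (hs : M9.IsLiftable s) (w : List (Fin 9)) :
    ev s w = M9.toCoxeterSystem.lift ⟨s, hs⟩ (M9.toCoxeterSystem.wordProd w) := by
  rw [CoxeterSystem.wordProd, map_list_prod, ev, List.map_map]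
  congr 1
  refine List.map_congr_left fun i _ => ?_
  rw [Function.comp_apply, CoxeterSystem.lift_apply_simple]

/-- The kernel check for the equality of two words in the Coxeter group `Y₃₃₂`. -/
def chk (w w' : List (Fin 9)) : Bool :=
  (List.range 9).all (fun i => actList (rows A9) (w.map (·.val)) (unit 9 i) ==
      actList (rows A9) (w'.map (·.val)) (unit 9 i))

theorem ev_eq_ev (hs : M9.IsLiftable s) {w w' : List (Fin 9)} (h : chk w w' = true) : ev s w = ev s w' := by
  rw [ev_eq_lift hs, ev_eq_lift hs,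
    wordProd_eq_wordProd M9.toCoxeterSystem isCartan w w' h]

/-- The spider word `d c b d e f d h i` -/
def spider : List (Fin 9) := [3, 2, 1, 3, 4, 5, 3, 7, 8]

/-- `a b c d e f h` -/
def WA : List (Fin 9) := [0, 1, 2, 3, 4, 5, 7]
/-- `b c d e f g h` -/
def WB : List (Fin 9) := [1, 2, 3, 4, 5, 6, 7]
/-- `c d e f g h i` -/
def WC : List (Fin 9) := [2, 3, 4, 5, 6, 7, 8]

theorem chk_18 : chk (rep 18 WC) [] = true := by decide +kernel

/-- Three conjugates of the tenth power of the spider have product one. -/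
theorem chk_triple : chk (rep 10 spider ++ [8, 7, 5, 1] ++ rep 10 spider ++ [1, 5, 7, 8] ++ [7, 8, 4, 5, 2] ++
    rep 10 spider ++ [2, 5, 4, 8, 7]) [] = true := by decide +kernel

/-- A central element of exponent two which is the tenth power of the spider is trivial. -/
theorem spider_eq_one (hs : M9.IsLiftable s) (hc : ∀ g : G, ev s spider ^ 10 * g = g * ev s spider ^ 10)
    (h2 : ev s spider ^ 10 * ev s spider ^ 10 = 1) : ev s spider ^ 10 = 1 := by
  have h := ev_eq_ev hs chk_triple
  simp only [ev_append, ev_rep, ev_nil] at h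
  have r1 : ev s [1, 5, 7, 8] = (ev s [8, 7, 5, 1])⁻¹ := ev_reverse hs [8, 7, 5, 1]
  have r2 : ev s [2, 5, 4, 8, 7] = (ev s [7, 8, 4, 5, 2])⁻¹ := ev_reverse hs [7, 8, 4, 5, 2]
  rw [r1, r2] at h
  set S := ev s spider ^ 10 with hS
  have e : S * ev s [8, 7, 5, 1] * S * (ev s [8, 7, 5, 1])⁻¹ * ev s [7, 8, 4, 5, 2] * S *
      (ev s [7, 8, 4, 5, 2])⁻¹ = S * S * S := by
    calc S * ev s [8, 7, 5, 1] * S * (ev s [8, 7, 5, 1])⁻¹ * ev s [7, 8, 4, 5, 2] * S *
          (ev s [7, 8, 4, 5, 2])⁻¹
        = S * (ev s [8, 7, 5, 1] * S) * (ev s [8, 7, 5, 1])⁻¹ * (ev s [7, 8, 4, 5, 2] * S) *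
          (ev s [7, 8, 4, 5, 2])⁻¹ := by simp only [mul_assoc]
      _ = S * (S * ev s [8, 7, 5, 1]) * (ev s [8, 7, 5, 1])⁻¹ * (S * ev s [7, 8, 4, 5, 2]) *
          (ev s [7, 8, 4, 5, 2])⁻¹ := by
          rw [← hc (ev s [8, 7, 5, 1]), ← hc (ev s [7, 8, 4, 5, 2])]
      _ = S * S * S := by group
  rw [e, h2, one_mul] at h
  exact h

/-- the nodes `b, …, i` -/
def idB : Fin 8 → Fin 9 := ![1, 2, 3, 4, 5, 6, 7, 8]

theorem lab_idB : ∀ i j : Fin 8, Fischer.Derived.lab i j = lab (idB i) (idB j) := by decide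

theorem WB_eq (hs : M9.IsLiftable s) (hsp : ev s spider ^ 10 = 1) : ev s WC ^ 9 = ev s WB ^ 9 := by
  have hl : Fischer.Derived.M8.IsLiftable (fun k => s (idB k)) := by
    intro i j
    show (s (idB i) * s (idB j)) ^ Fischer.Derived.lab i j = 1
    rw [lab_idB]
    exact hs _ _
  have e8 : ∀ w : List (Fin 8), Fischer.Derived.ev (fun k => s (idB k)) w = ev s (w.map idB) := by
    intro w
    rw [Fischer.Derived.ev, ev, List.map_map]; rfl
  have h := Fischer.ZCentral.z_eq hl (by rw [e8]; exact hsp)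
  rw [e8, e8] at h
  exact h

end Cfsg.Agent.KFacts.MulEven.Cox9

end

-- merged: Cfsg.Agent.KFacts.MulEven.Lift9
section

/-!
# Lifting the nine nodes of `Y₃₃₂` through a central extension by a group of order two

The same as `TwoESix.Lift` for the diagram `Y₃₃₂`: `π : M →* E` has kernel `{1, z}`, `e : Fin 9 → E` satisfies the
Coxeter relations, the spider relation and `(b c d e f g h) ^ 9 = 1`.  Then there are lifts of `e` satisfying the
Coxeter relations and the spider relation exactly (`exists_cox`).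
-/

set_option autoImplicit false

namespace Cfsg.Agent.KFacts.MulEven.Lift9

open Cfsg.Agent.KFacts.MulEven.Cox9 Cfsg.Agent.R01.Lifts

/-! ### Braid and commutation relations in a group with Coxeter relations -/

theorem lab_adj : ∀ i j : Fin 9, adj i j = true → lab i j = 3 := by decide
theorem adj_symm : ∀ i j : Fin 9, adj i j = true → adj j i = true := by decide
theorem adj_of_lab : ∀ i j : Fin 9, lab i j = 3 → adj i j = true := by decide

section Cox

variable {G : Type*} [Group G] {s : Fin 9 → G}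

theorem braid (hs : M9.IsLiftable s) {i j : Fin 9} (h : adj i j = true) :
    s i * s j * s i = s j * s i * s j := by
  have h1 : (s i * s j) ^ 3 = 1 := by
    have := hs i j
    rwa [M9_apply, lab_adj i j h] at this
  have ei : (s i)⁻¹ = s i := inv_eq_of_mul_eq_one_left (sq hs i)
  have ej : (s j)⁻¹ = s j := inv_eq_of_mul_eq_one_left (sq hs j)
  have h2 : (s i * s j * s i) * (s j * s i * s j) = 1 := by
    rw [← h1]; simp only [pow_succ, pow_zero, one_mul, mul_assoc]
  rw [eq_inv_of_mul_eq_one_left h2]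
  simp only [mul_inv_rev, ei, ej, mul_assoc]

theorem comm_of (hs : M9.IsLiftable s) {i j : Fin 9} (h : lab i j = 2) : Commute (s i) (s j) := by
  have h1 : (s i * s j) ^ 2 = 1 := by
    have := hs i j
    rwa [M9_apply, h] at this
  have ei : (s i)⁻¹ = s i := inv_eq_of_mul_eq_one_left (sq hs i)
  have ej : (s j)⁻¹ = s j := inv_eq_of_mul_eq_one_left (sq hs j)
  have h2 : (s i * s j) * (s i * s j) = 1 := by rw [← h1, pow_two]
  show s i * s j = s j * s i
  rw [eq_inv_of_mul_eq_one_left h2, mul_inv_rev, ei, ej]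

end Cox

/-! ### A combinatorial closure -/

/-- A symmetric relation on the nodes which is stable under moving one of two non adjacent nodes along an edge, and
which holds for the pair `(0, 6)`, holds for all non adjacent pairs. -/
theorem all_pairs (P : Fin 9 → Fin 9 → Prop) (hs : ∀ i j, P i j → P j i)
    (hm : ∀ k i j, adj i j = true → lab k i = 2 → lab k j = 2 → P k i → P k j) (h06 : P 0 6) :
    ∀ i j, lab i j = 2 → P i j := by
  have mv : ∀ (k i : Fin 9) (j : Fin 9), (adj i j && lab k i == 2 && lab k j == 2) = true → P k i → P k j := by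
    intro k i j h
    simp only [Bool.and_eq_true, beq_iff_eq] at h
    exact hm k i j h.1.1 h.1.2 h.2
  have p05 := mv 0 6 5 (by decide) h06
  have p04 := mv 0 5 4 (by decide) p05
  have p03 := mv 0 4 3 (by decide) p04
  have p02 := mv 0 3 2 (by decide) p03
  have p07 := mv 0 3 7 (by decide) p03
  have p08 := mv 0 7 8 (by decide) p07
  have p60 := hs _ _ h06
  have p61 := mv 6 0 1 (by decide) p60
  have p62 := mv 6 1 2 (by decide) p61
  have p63 := mv 6 2 3 (by decide) p62
  have p64 := mv 6 3 4 (by decide) p63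
  have p67 := mv 6 3 7 (by decide) p63
  have p68 := mv 6 7 8 (by decide) p67
  have p80 := hs _ _ p08
  have p81 := mv 8 0 1 (by decide) p80
  have p82 := mv 8 1 2 (by decide) p81
  have p83 := mv 8 2 3 (by decide) p82
  have p84 := mv 8 3 4 (by decide) p83
  have p85 := mv 8 4 5 (by decide) p84
  have p86 := mv 8 5 6 (by decide) p85
  -- node 1
  have p16 := hs _ _ p61
  have p15 := mv 1 6 5 (by decide) p16
  have p14 := mv 1 5 4 (by decide) p15
  have p13 := mv 1 4 3 (by decide) p14
  have p17 := mv 1 3 7 (by decide) p13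
  have p18 := mv 1 7 8 (by decide) p17
  -- node 2
  have p20 := hs _ _ p02
  have p26 := hs _ _ p62
  have p25 := mv 2 6 5 (by decide) p26
  have p24 := mv 2 5 4 (by decide) p25
  have p28 := hs _ _ p82
  have p27 := mv 2 8 7 (by decide) p28
  -- node 3
  have p30 := hs _ _ p03
  have p31 := mv 3 0 1 (by decide) p30
  have p36 := hs _ _ p63
  have p35 := mv 3 6 5 (by decide) p36
  have p38 := hs _ _ p83
  -- node 4
  have p40 := hs _ _ p04
  have p41 := mv 4 0 1 (by decide) p40
  have p42 := mv 4 1 2 (by decide) p41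
  have p46 := hs _ _ p64
  have p48 := hs _ _ p84
  have p47 := mv 4 8 7 (by decide) p48
  -- node 5
  have p50 := hs _ _ p05
  have p51 := mv 5 0 1 (by decide) p50
  have p52 := mv 5 1 2 (by decide) p51
  have p53 := mv 5 2 3 (by decide) p52
  have p57 := mv 5 3 7 (by decide) p53
  have p58 := mv 5 7 8 (by decide) p57
  -- node 7
  have p70 := hs _ _ p07
  have p71 := mv 7 0 1 (by decide) p70
  have p72 := mv 7 1 2 (by decide) p71
  have p74 := hs _ _ p47
  have p75 := mv 7 4 5 (by decide) p74
  have p76 := mv 7 5 6 (by decide) p75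
  intro i j h
  fin_cases i <;> fin_cases j <;> first
    | assumption
    | exact absurd h (by decide)

/-! ### Central extensions -/

section Ext

variable {M E : Type*} [Group M] [Group E] {π : M →* E} {z : M}

theorem conj_eq (h : Ext π z) {g a b : M} (hc : Commute (π g) (π a)) (hb : Commute b a) :
    Commute b (g * a * g⁻¹) := by
  rcases h.conj_of_commute hc with h1 | h1
  · rw [h1]; exact hb
  · rw [h1]; exact hb.mul_right (h.comm b)

/-- A lift of a neighbour satisfying the braid relation exactly. -/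
theorem exists_braid (h : Ext π z) {x y : E} (hxy : x * y * x = y * x * y) (a : M) (ha : π a = x) :
    ∃ b, π b = y ∧ a * b * a = b * a * b := by
  obtain ⟨b, hb⟩ := h.surj y
  have h1 : π (a * b * a) = π (b * a * b) := by
    simp only [map_mul, ha, hb, hxy]
  rcases h.map_eq.1 h1 with h2 | h2
  · exact ⟨b, hb, h2⟩
  · refine ⟨b * z, by rw [map_mul, hb, h.mapz, mul_one], ?_⟩
    have e1 : a * (b * z) * a = a * b * a * z := by
      calc a * (b * z) * a = a * b * (z * a) := by group
        _ = a * b * (a * z) := by rw [h.comm a]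
        _ = a * b * a * z := by group
    have e2 : b * z * a * (b * z) = b * a * b := by
      calc b * z * a * (b * z) = b * (z * (a * b)) * z := by group
        _ = b * ((a * b) * z) * z := by rw [h.comm (a * b)]
        _ = b * (a * b) * z * z := by group
        _ = b * a * b := by rw [h.mul_z_mul_z]; group
    rw [e1, e2, h2, h.mul_z_mul_z]

theorem exists_braids (h : Ext π z) {e : Fin 9 → E} (he : M9.IsLiftable e) :
    ∃ m : Fin 9 → M, (∀ i, π (m i) = e i) ∧ ∀ i j, adj i j = true → m i * m j * m i = m j * m i * m j := by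
  obtain ⟨m3, h3⟩ := h.surj (e 3)
  obtain ⟨m2, h2, b2⟩ := exists_braid h (braid he (i := 3) (j := 2) (by decide)) m3 h3
  obtain ⟨m1, h1, b1⟩ := exists_braid h (braid he (i := 2) (j := 1) (by decide)) m2 h2
  obtain ⟨m0, h0, b0⟩ := exists_braid h (braid he (i := 1) (j := 0) (by decide)) m1 h1
  obtain ⟨m4, h4, b4⟩ := exists_braid h (braid he (i := 3) (j := 4) (by decide)) m3 h3
  obtain ⟨m5, h5, b5⟩ := exists_braid h (braid he (i := 4) (j := 5) (by decide)) m4 h4
  obtain ⟨m6, h6, b6⟩ := exists_braid h (braid he (i := 5) (j := 6) (by decide)) m5 h5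
  obtain ⟨m7, h7, b7⟩ := exists_braid h (braid he (i := 3) (j := 7) (by decide)) m3 h3
  obtain ⟨m8, h8, b8⟩ := exists_braid h (braid he (i := 7) (j := 8) (by decide)) m7 h7
  refine ⟨![m0, m1, m2, m3, m4, m5, m6, m7, m8], ?_, ?_⟩
  · intro i
    fin_cases i
    · exact h0
    · exact h1
    · exact h2
    · exact h3
    · exact h4
    · exact h5
    · exact h6
    · exact h7
    · exact h8
  · have key : ∀ i j : Fin 9, adj i j = true → (i, j) ∈ ([(0, 1), (1, 0), (1, 2), (2, 1), (2, 3), (3, 2), (3, 4),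
        (4, 3), (4, 5), (5, 4), (5, 6), (6, 5), (3, 7), (7, 3), (7, 8), (8, 7)] :
        List (Fin 9 × Fin 9)) := by decide
    intro i j hij
    have := key i j hij
    simp only [List.mem_cons, Prod.mk.injEq, List.not_mem_nil, or_false] at this
    rcases this with ⟨rfl, rfl⟩ | ⟨rfl, rfl⟩ | ⟨rfl, rfl⟩ | ⟨rfl, rfl⟩ | ⟨rfl, rfl⟩ | ⟨rfl, rfl⟩ | ⟨rfl, rfl⟩ |
      ⟨rfl, rfl⟩ | ⟨rfl, rfl⟩ | ⟨rfl, rfl⟩ | ⟨rfl, rfl⟩ | ⟨rfl, rfl⟩ | ⟨rfl, rfl⟩ | ⟨rfl, rfl⟩ | ⟨rfl, rfl⟩ |
      ⟨rfl, rfl⟩
    · exact b0.symm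
    · exact b0
    · exact b1.symm
    · exact b1
    · exact b2.symm
    · exact b2
    · exact b4
    · exact b4.symm
    · exact b5
    · exact b5.symm
    · exact b6
    · exact b6.symm
    · exact b7
    · exact b7.symm
    · exact b8
    · exact b8.symm

theorem conj_braid {a b : M} (h : a * b * a = b * a * b) : (a * b) * a * (a * b)⁻¹ = b := by
  rw [h]; group

/-- Moving a commuting pair along an edge. -/
theorem comm_move (h : Ext π z) {e : Fin 9 → E} (he : M9.IsLiftable e) {m : Fin 9 → M}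
    (hm : ∀ i, π (m i) = e i) (hb : ∀ i j, adj i j = true → m i * m j * m i = m j * m i * m j)
    (k i j : Fin 9) (hij : adj i j = true) (hki : lab k i = 2) (hkj : lab k j = 2)
    (hc : Commute (m k) (m i)) : Commute (m k) (m j) := by
  have h1 := conj_braid (hb i j hij)
  have h2 : Commute (m i * m j * m k * (m i * m j)⁻¹) (m i * m j * m i * (m i * m j)⁻¹) := by
    show _ * _ = _ * _
    have := hc.eq
    calc m i * m j * m k * (m i * m j)⁻¹ * (m i * m j * m i * (m i * m j)⁻¹)
        = m i * m j * (m k * m i) * (m i * m j)⁻¹ := by group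
      _ = m i * m j * (m i * m k) * (m i * m j)⁻¹ := by rw [this]
      _ = _ := by group
  rw [h1] at h2
  have hk : Commute (π (m i * m j)) (π (m k)) := by
    rw [map_mul, hm, hm, hm]
    exact ((comm_of he hki).symm.mul_left (comm_of he hkj).symm)
  rcases h.conj_of_commute hk with h3 | h3
  · rw [h3] at h2; exact h2
  · rw [h3] at h2
    show m k * m j = m j * m k
    have h4 : m k * z * m j = m j * (m k * z) := h2.eq
    have h5 : m k * m j * z = m j * m k * z := by
      calc m k * m j * z = m k * (m j * z) := by group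
        _ = m k * (z * m j) := by rw [h.comm (m j)]
        _ = m k * z * m j := by group
        _ = _ := by rw [h4]; group
    exact mul_right_cancel h5

theorem z_pow_63 (h : Ext π z) : z ^ 63 = z := pow_odd_of_sq h.zz (by decide)

/-- The lifts commute. -/
theorem comm_lift (h : Ext π z) {e : Fin 9 → E} (he : M9.IsLiftable e) (hWC : ev e WC ^ 9 = 1)
    {m : Fin 9 → M} (hm : ∀ i, π (m i) = e i)
    (hb : ∀ i j, adj i j = true → m i * m j * m i = m j * m i * m j) :
    ∀ i j, lab i j = 2 → Commute (m i) (m j) := by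
  have mv := comm_move h he hm hb
  refine all_pairs (fun i j => Commute (m i) (m j)) (fun i j hc => hc.symm) mv ?_
  by_contra h06
  -- then `m 0` commutes with none of the other ones
  have hn : ∀ j : Fin 9, lab 0 j = 2 → ¬ Commute (m 0) (m j) := by
    have n5 : ¬ Commute (m 0) (m 5) := fun hc => h06 (mv 0 5 6 (by decide) (by decide) (by decide) hc)
    have n4 : ¬ Commute (m 0) (m 4) := fun hc => n5 (mv 0 4 5 (by decide) (by decide) (by decide) hc)
    have n3 : ¬ Commute (m 0) (m 3) := fun hc => n4 (mv 0 3 4 (by decide) (by decide) (by decide) hc)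
    have n2 : ¬ Commute (m 0) (m 2) := fun hc => n3 (mv 0 2 3 (by decide) (by decide) (by decide) hc)
    have n7 : ¬ Commute (m 0) (m 7) := fun hc => n3 (mv 0 7 3 (by decide) (by decide) (by decide) hc)
    have n8 : ¬ Commute (m 0) (m 8) := fun hc => n7 (mv 0 8 7 (by decide) (by decide) (by decide) hc)
    intro j hj
    fin_cases j <;> first
      | assumption
      | exact absurd hj (by decide)
  have hconj : ∀ j : Fin 9, lab 0 j = 2 → m 0 * m j * (m 0)⁻¹ = m j * z := by
    intro j hj
    have hc : Commute (π (m 0)) (π (m j)) := by rw [hm, hm]; exact comm_of he hj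
    rcases h.conj_of_commute hc with h1 | h1
    · exfalso
      apply hn j hj
      show m 0 * m j = m j * m 0
      calc m 0 * m j = (m 0 * m j * (m 0)⁻¹) * m 0 := by group
        _ = m j * m 0 := by rw [h1]
    · exact h1
  have hlist : ∀ w : List (Fin 9), (∀ j ∈ w, lab 0 j = 2) → ∀ x ∈ w.map m, m 0 * x * (m 0)⁻¹ = x * z := by
    intro w hw x hx
    obtain ⟨j, hj, rfl⟩ := List.mem_map.1 hx
    exact hconj j (hw j hj)
  have h1 := conj_prod h.comm ((rep 9 WC).map m) (hlist (rep 9 WC) (by decide))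
  have hlen : ((rep 9 WC).map m).length = 63 := by rw [List.length_map]; decide
  rw [hlen, z_pow_63 h] at h1
  have h2 : π ((rep 9 WC).map m).prod = 1 := by
    show π (ev m (rep 9 WC)) = 1
    rw [ev_map, ← hWC, ← ev_rep]
    congr 1
    funext i; exact hm i
  rcases (h.ker _).1 h2 with h3 | h3
  · rw [h3, one_mul, mul_one, mul_inv_cancel] at h1
    exact h.zne h1.symm
  · rw [h3, h.comm, mul_assoc, mul_inv_cancel, mul_one] at h1
    have : z * z = z * 1 := by rw [← h1]; rw [mul_one]
    exact h.zne (mul_left_cancel this)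

theorem all_nodes (P : Fin 9 → Prop) (hm : ∀ i j, adj i j = true → P i → P j) (h3 : P 3) : ∀ i, P i := by
  have p2 := hm 3 2 (by decide) h3
  have p1 := hm 2 1 (by decide) p2
  have p0 := hm 1 0 (by decide) p1
  have p4 := hm 3 4 (by decide) h3
  have p5 := hm 4 5 (by decide) p4
  have p6 := hm 5 6 (by decide) p5
  have p7 := hm 3 7 (by decide) h3
  have p8 := hm 7 8 (by decide) p7
  intro i
  fin_cases i <;> assumption

/-- Squares move along edges. -/
theorem sq_move {m : Fin 9 → M} (hb : ∀ i j, adj i j = true → m i * m j * m i = m j * m i * m j)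
    {c : M} (hc : ∀ g : M, g * c = c * g) (i j : Fin 9) (hij : adj i j = true) (h : m i * m i = c) :
    m j * m j = c := by
  have h1 := conj_braid (hb i j hij)
  calc m j * m j = (m i * m j * m i * (m i * m j)⁻¹) * (m i * m j * m i * (m i * m j)⁻¹) := by rw [h1]
    _ = (m i * m j) * (m i * m i) * (m i * m j)⁻¹ := by group
    _ = c := by rw [h, hc, mul_assoc, mul_inv_cancel, mul_one]

/-- The cyclic group of order four. -/
abbrev Z4 : Type := Multiplicative (ZMod 4)

/-- its generator -/
def g4 : Z4 := Multiplicative.ofAdd 1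

theorem g4_4 : g4 ^ 4 = 1 := by decide
theorem g4_2 : g4 ^ 2 ≠ 1 := by decide

theorem ev_pair (m : Fin 9 → M) (w : List (Fin 9)) :
    ev (fun i => ((m i, g4) : M × Z4)) w = (ev m w, g4 ^ w.length) := by
  induction w with
  | nil => rfl
  | cons i w ih => rw [ev_cons, ih, ev_cons, List.length_cons, pow_succ']; rfl

/-- The lifts are involutions. -/
theorem sq_lift (h : Ext π z) {e : Fin 9 → E} (hWC : ev e WC ^ 9 = 1)
    (he : M9.IsLiftable e)
    {m : Fin 9 → M} (hm : ∀ i, π (m i) = e i)
    (hb : ∀ i j, adj i j = true → m i * m j * m i = m j * m i * m j)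
    (hc : ∀ i j, lab i j = 2 → Commute (m i) (m j)) (i : Fin 9) : m i * m i = 1 := by
  have h3 : m 3 * m 3 = 1 ∨ m 3 * m 3 = z := by
    apply (h.ker _).1
    rw [map_mul, hm, sq he]
  rcases h3 with h3 | h3
  · exact all_nodes (fun i => m i * m i = 1) (fun i j => sq_move hb (c := 1) (by simp) i j) h3 i
  · exfalso
    have hsq := all_nodes (fun i => m i * m i = z) (fun i j => sq_move hb (c := z) h.comm i j) h3
    let c : M × Z4 := (z, g4 ^ 2)
    have hcc : ∀ g : M × Z4, g * c = c * g := by
      rintro ⟨a, b⟩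
      exact Prod.ext (h.comm a) (mul_comm _ _)
    have hcen : c ∈ Subgroup.center (M × Z4) := by
      rw [Subgroup.mem_center_iff]; exact hcc
    let N : Subgroup (M × Z4) := Subgroup.zpowers c
    have hNc : N ≤ Subgroup.center (M × Z4) := Subgroup.zpowers_le.2 hcen
    have hN : N.Normal := by
      refine ⟨fun n hn g => ?_⟩
      have := Subgroup.mem_center_iff.1 (hNc hn) g
      rw [this, mul_assoc, mul_inv_cancel, mul_one]; exact hn
    let q := QuotientGroup.mk' N
    let b : Fin 9 → (M × Z4) ⧸ N := fun i => q (m i, g4)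
    have hq : ∀ x : M × Z4, q x = 1 ↔ x ∈ N := fun x => QuotientGroup.eq_one_iff x
    have hcN : c ∈ N := Subgroup.mem_zpowers c
    have e2 : ∀ i, b i * b i = 1 := by
      intro i
      show q _ * q _ = 1
      rw [← map_mul, hq]
      have : ((m i, g4) : M × Z4) * (m i, g4) = c := by
        refine Prod.ext (hsq i) ?_
        show g4 * g4 = g4 ^ 2
        rw [pow_two]
      rw [this]; exact hcN
    have hlift : M9.IsLiftable b := by
      intro i j
      show (b i * b j) ^ lab i j = 1
      rcases lab_cases i j with ⟨h1, rfl⟩ | h1 | h1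
      · rw [h1, pow_one]; exact e2 i
      · rw [h1, pow_two]
        have hcb : b i * b j = b j * b i := by
          show q _ * q _ = q _ * q _
          rw [← map_mul, ← map_mul]
          congr 1
          exact Prod.ext (hc i j h1).eq rfl
        calc b i * b j * (b i * b j) = b i * (b j * b i) * b j := by group
          _ = b i * (b i * b j) * b j := by rw [hcb]
          _ = (b i * b i) * (b j * b j) := by group
          _ = 1 := by rw [e2, e2, one_mul]
      · rw [h1]
        have hbb : b i * b j * b i = b j * b i * b j := by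
          show q _ * q _ * q _ = q _ * q _ * q _
          simp only [← map_mul]
          congr 1
          exact Prod.ext (hb i j (adj_of_lab i j h1)) rfl
        calc (b i * b j) ^ 3 = (b i * b j * b i) * (b j * b i * b j) := by
              simp only [pow_succ, pow_zero, one_mul, mul_assoc]
          _ = (b j * b i * b j) * (b j * b i * b j) := by rw [hbb]
          _ = b j * b i * (b j * b j) * b i * b j := by group
          _ = b j * (b i * b i) * b j := by rw [e2 j]; group
          _ = 1 := by rw [e2 i, mul_one, e2 j]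
    have h18 := ev_eq_ev hlift chk_18
    rw [ev_nil] at h18
    have hev : ev b (rep 18 WC) = q (ev (fun i => ((m i, g4) : M × Z4)) (rep 18 WC)) := by
      rw [ev_map]
    rw [hev, hq, ev_pair, ev_rep] at h18
    have hlen : (rep 18 WC).length = 126 := by decide +kernel
    have h9 : ev m WC ^ 18 = 1 := by
      have h2 : π (ev m WC ^ 9) = 1 := by
        have e1 : (fun i => π (m i)) = e := funext hm
        rw [map_pow, ev_map, e1, hWC]
      have e18 : ev m WC ^ 18 = ev m WC ^ 9 * ev m WC ^ 9 := by rw [← pow_add]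
      rcases (h.ker _).1 h2 with h3 | h3
      · rw [e18, h3, one_mul]
      · rw [e18, h3, h.zz]
    have hg : g4 ^ 126 = g4 ^ 2 := by
      rw [show (126 : ℕ) = 4 * 31 + 2 from rfl, pow_add, pow_mul, g4_4, one_pow, one_mul]
    rw [hlen, h9, hg] at h18
    obtain ⟨k, hk⟩ := Subgroup.mem_zpowers_iff.1 h18
    have hk1 : z ^ k = 1 := congrArg Prod.fst hk
    have hk2 : (g4 ^ 2) ^ k = g4 ^ 2 := congrArg Prod.snd hk
    have hoz : orderOf z = 2 := by
      refine orderOf_eq_prime ?_ h.zne
      rw [pow_two]; exact h.zz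
    have hd : (2 : ℤ) ∣ k := by
      have := orderOf_dvd_iff_zpow_eq_one.2 hk1
      rwa [hoz] at this
    obtain ⟨l, rfl⟩ := hd
    rw [zpow_mul] at hk2
    have : ((g4 ^ 2 : Z4) ^ (2 : ℤ)) = 1 := by
      rw [zpow_ofNat, ← pow_mul]; exact g4_4
    rw [this, one_zpow] at hk2
    exact g4_2 hk2.symm

/-- **Lifts with the exact Coxeter and spider relations.** -/
theorem exists_cox (h : Ext π z) {e : Fin 9 → E} (he : M9.IsLiftable e) (hsp : ev e spider ^ 10 = 1)
    (hWB : ev e WB ^ 9 = 1) :
    ∃ m : Fin 9 → M, (∀ i, π (m i) = e i) ∧ M9.IsLiftable m ∧ ev m spider ^ 10 = 1 := by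
  obtain ⟨m, hm, hb⟩ := exists_braids h he
  have h132 : ev e WC ^ 9 = 1 := by rw [WB_eq he hsp]; exact hWB
  have hc := comm_lift h he h132 hm hb
  have hsq := sq_lift h h132 he hm hb hc
  have hl : M9.IsLiftable m := by
    intro i j
    show (m i * m j) ^ lab i j = 1
    rcases lab_cases i j with ⟨h1, rfl⟩ | h1 | h1
    · rw [h1, pow_one]; exact hsq i
    · rw [h1, (hc i j h1).mul_pow, pow_two, pow_two, hsq, hsq, one_mul]
    · rw [h1]
      have hbb := hb i j (adj_of_lab i j h1)
      calc (m i * m j) ^ 3 = (m i * m j * m i) * (m j * m i * m j) := by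
            simp only [pow_succ, pow_zero, one_mul, mul_assoc]
        _ = (m j * m i * m j) * (m j * m i * m j) := by rw [hbb]
        _ = m j * m i * (m j * m j) * m i * m j := by group
        _ = m j * (m i * m i) * m j := by rw [hsq j]; group
        _ = 1 := by rw [hsq i, mul_one, hsq j]
  refine ⟨m, hm, hl, ?_⟩
  have hπ : π (ev m spider ^ 10) = 1 := by
    rw [map_pow, ev_map, ← hsp]
    congr 2
    funext i; exact hm i
  rcases (h.ker _).1 hπ with h1 | h1
  · exact h1
  · apply spider_eq_one hl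
    · intro g; rw [h1]; exact (h.comm g).symm
    · rw [h1, h.zz]

/-! ### The signs of the `E₇` words -/

theorem ev_mul_z (h : Ext π z) (s : Fin 9 → M) (w : List (Fin 9)) :
    ev (fun i => s i * z) w = ev s w * z ^ w.length := by
  induction w with
  | nil => simp [ev_nil]
  | cons i w ih =>
    rw [ev_cons, ih, ev_cons, List.length_cons, pow_succ']
    calc s i * z * (ev s w * z ^ w.length) = s i * (z * ev s w) * z ^ w.length := by group
      _ = s i * (ev s w * z) * z ^ w.length := by rw [h.comm]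
      _ = _ := by group

theorem ev7_mul_z (h : Ext π z) (s : Fin 9 → M) {w : List (Fin 9)} (hw : w.length = 7) :
    ev (fun i => s i * z) w ^ 9 = ev s w ^ 9 * z := by
  rw [ev_mul_z h, hw, pow_odd_of_sq h.zz (by decide : Odd 7)]
  have hcom : Commute (ev s w) z := h.comm _
  rw [hcom.mul_pow, pow_odd_of_sq h.zz (by decide : Odd 9)]

end Ext

end Cfsg.Agent.KFacts.MulEven.Lift9

end

-- merged: Cfsg.Agent.KFacts.MulEven.Fi22
section

/-!
# `Fi22`: a perfect central extension by a 2-group has kernel of order at most 2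

In a perfect double cover `π : L → Fi22` with kernel `{1, z}` the nodes of `Y₃₃₂` have lifts `m` with the Coxeter and
spider relations, `(a b c d e f h) ^ 9 = 1` and `(b c d e f g h) ^ 9 = z` (`exists_nodes`).  The product of `h`, `c`,
`a` and the product of `h`, `e`, `g` are conjugate in the Coxeter group, and so are `(a b c d e f h) ^ 9 h c a` and
`(b c d e f g h) ^ 9 h e g`.  Hence there is one commutator in `Fi22` (`s0`, `w0`) which lifts to `z` in every double
cover: `OneCover Fi22`.
-/

set_option autoImplicit false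
set_option linter.constructorNameAsVariable false

namespace Cfsg.Agent.KFacts.MulEven.Fi22

open Cfsg Cfsg.Agent.R01.Lifts Cfsg.Agent.KFacts.MulEven.Cox9 Cfsg.Agent.KFacts.MulEven.Lift9
open Cfsg.Agent.KFacts Cfsg.Agent.KFacts.MulDef
open scoped commutatorElement

universe u

/-- The relations. -/
structure FRels {G : Type*} [Group G] (s : Fin 9 → G) (z : G) : Prop where
  lift : M9.IsLiftable s
  spider : ev s spider ^ 10 = 1
  eA : ev s WA ^ 9 = 1
  eB : ev s WB ^ 9 = z

/-- the generator of the index `i` -/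
def gen : Fin 9 → Spor.Fi22.Gen := ![.a, .b, .c, .d, .e, .f, .g, .h, .i]

/-- the index of a generator -/
def idx : Spor.Fi22.Gen → Fin 9
  | .a => 0
  | .b => 1
  | .c => 2
  | .d => 3
  | .e => 4
  | .f => 5
  | .g => 6
  | .h => 7
  | .i => 8

theorem gen_idx : ∀ g, gen (idx g) = g := by intro g; cases g <;> rfl

theorem lab_gen : ∀ i j, Spor.coxLabel Spor.Fi22.edges (gen i) (gen j) = lab i j := by decide

theorem mem_nodes : ∀ i, gen i ∈ Spor.coxNodes Spor.Fi22.edges := by decide

theorem mem_nodes' (g : Spor.Fi22.Gen) : g ∈ Spor.coxNodes Spor.Fi22.edges := by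
  cases g <;> decide

/-- the nodes -/
def e0 (i : Fin 9) : Spor.Fi22 := PresentedGroup.of (gen i)

theorem frels_std : FRels e0 1 := by
  have key : ∀ r ∈ Spor.coxRelators Spor.Fi22.edges ∪ {r | r ∈ Spor.Fi22.extra},
      PresentedGroup.mk (Spor.coxRelators Spor.Fi22.edges ∪ {r | r ∈ Spor.Fi22.extra}) r = 1 :=
    fun r hr => PresentedGroup.one_of_mem hr
  refine ⟨fun i j => ?_, ?_, ?_, ?_⟩
  · have := key _ (Or.inl ⟨gen i, mem_nodes i, gen j, mem_nodes j, rfl⟩)
    rw [map_pow, map_mul, lab_gen] at this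
    exact this
  · have := key _ (Or.inr (show _ ∈ Spor.Fi22.extra from List.mem_cons_self))
    rw [map_pow] at this
    simp only [map_mul] at this
    simp only [Cox9.spider, ev, List.map_cons, List.map_nil, List.prod_cons, List.prod_nil, mul_one]
    simp only [mul_assoc] at this
    exact this
  · have := key _ (Or.inr (show _ ∈ Spor.Fi22.extra from List.mem_cons_of_mem _ List.mem_cons_self))
    rw [map_pow] at this
    simp only [map_mul] at this
    simp only [WA, ev, List.map_cons, List.map_nil, List.prod_cons, List.prod_nil, mul_one]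
    simp only [mul_assoc] at this
    exact this
  · have := key _ (Or.inr (show _ ∈ Spor.Fi22.extra from
      List.mem_cons_of_mem _ (List.mem_cons_of_mem _ List.mem_cons_self)))
    rw [map_pow] at this
    simp only [map_mul] at this
    simp only [WB, ev, List.map_cons, List.map_nil, List.prod_cons, List.prod_nil, mul_one]
    simp only [mul_assoc] at this
    exact this

theorem FRels.exists_hom {G : Type*} [Group G] {s : Fin 9 → G} (h : FRels s 1) :
    ∃ φ : Spor.Fi22 →* G, ∀ i, φ (e0 i) = s i := by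
  have hr : ∀ r ∈ Spor.coxRelators Spor.Fi22.edges ∪ {r | r ∈ Spor.Fi22.extra},
      FreeGroup.lift (fun g => s (idx g)) r = 1 := by
    rintro r (⟨x, -, y, -, rfl⟩ | hr)
    · rw [map_pow, map_mul, FreeGroup.lift_apply_of, FreeGroup.lift_apply_of]
      have h1 := h.lift (idx x) (idx y)
      rw [M9_apply, ← lab_gen, gen_idx, gen_idx] at h1
      exact h1
    · have hr' : r ∈ Spor.Fi22.extra := hr
      simp only [Spor.Fi22.extra, List.mem_cons, List.not_mem_nil, or_false] at hr'
      rcases hr' with rfl | rfl | rfl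
      · have h1 := h.spider
        simp only [Cox9.spider, ev, List.map_cons, List.map_nil, List.prod_cons, List.prod_nil, mul_one] at h1
        simp only [map_pow, map_mul, FreeGroup.lift_apply_of, mul_assoc]
        exact h1
      · have h1 := h.eA
        simp only [WA, ev, List.map_cons, List.map_nil, List.prod_cons, List.prod_nil, mul_one] at h1
        simp only [map_pow, map_mul, FreeGroup.lift_apply_of, mul_assoc]
        exact h1
      · have h1 := h.eB
        simp only [WB, ev, List.map_cons, List.map_nil, List.prod_cons, List.prod_nil, mul_one] at h1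
        simp only [map_pow, map_mul, FreeGroup.lift_apply_of, mul_assoc]
        exact h1
  refine ⟨PresentedGroup.toGroup hr, fun i => ?_⟩
  have h1 : PresentedGroup.toGroup hr (e0 i) = s (idx (gen i)) := PresentedGroup.toGroup.of hr
  have h2 : ∀ i, idx (gen i) = i := by decide
  rw [h1, h2]

theorem hom_ext {G : Type*} [Group G] {φ ψ : Spor.Fi22 →* G} (h : ∀ i, φ (e0 i) = ψ (e0 i)) : φ = ψ := by
  apply PresentedGroup.ext
  intro g
  have := h (idx g)
  unfold e0 at this
  rwa [gen_idx] at this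

/-! ### Lifting -/

section

variable {M E : Type*} [Group M] [Group E] {π : M →* E} {z : M}

theorem mul_z_mul (h : Ext π z) (x y : M) : x * z * (y * z) = x * y := by
  calc x * z * (y * z) = x * (z * y) * z := by group
    _ = x * (y * z) * z := by rw [h.comm y]
    _ = x * y * z * z := by group
    _ = x * y := h.mul_z_mul_z _

theorem lift_mul_z (h : Ext π z) {m : Fin 9 → M} (hl : M9.IsLiftable m) :
    M9.IsLiftable (fun i => m i * z) := by
  intro i j
  show (m i * z * (m j * z)) ^ _ = 1
  rw [mul_z_mul h]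
  exact hl i j

theorem spider_mul_z (h : Ext π z) {m : Fin 9 → M} (hsp : ev m Cox9.spider ^ 10 = 1) :
    ev (fun i => m i * z) Cox9.spider ^ 10 = 1 := by
  have hl : (Cox9.spider).length = 9 := rfl
  have h9 : z ^ 9 = z := pow_odd_of_sq h.zz (by decide)
  rw [ev_mul_z h, hl, h9]
  have hcom : Commute (ev m Cox9.spider) z := h.comm _
  have h10 : z ^ 10 = 1 := by
    rw [show (10 : ℕ) = 2 * 5 from rfl, pow_mul, pow_two, h.zz, one_pow]
  rw [hcom.mul_pow, hsp, h10, one_mul]

/-- **Lifts of the nodes.** -/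
theorem exists_lifts (h : Ext π z) {e : Fin 9 → E} (he : FRels e 1) :
    ∃ m : Fin 9 → M, (∀ i, π (m i) = e i) ∧ (FRels m 1 ∨ FRels m z) := by
  obtain ⟨m, hm, hl, hsp⟩ := exists_cox h he.lift he.spider he.eB
  have hmap : ∀ w : List (Fin 9), ev e w ^ 9 = 1 → ev m w ^ 9 = 1 ∨ ev m w ^ 9 = z := by
    intro w hw
    apply (h.ker _).1
    rw [map_pow, ev_map, ← hw]
    congr 2
    funext i; exact hm i
  have l2 : WA.length = 7 := rfl
  have l3 : WB.length = 7 := rfl
  have hm' : ∀ i, π (m i * z) = e i := fun i => by rw [map_mul, h.mapz, mul_one]; exact hm i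
  have hl' := lift_mul_z h hl
  have hsp' := spider_mul_z h hsp
  rcases hmap WA he.eA with h2 | h2 <;> rcases hmap WB he.eB with h3 | h3
  · exact ⟨m, hm, Or.inl ⟨hl, hsp, h2, h3⟩⟩
  · exact ⟨m, hm, Or.inr ⟨hl, hsp, h2, h3⟩⟩
  · refine ⟨fun i => m i * z, hm', Or.inr ⟨hl', hsp', ?_, ?_⟩⟩
    · rw [ev7_mul_z h m l2, h2, h.zz]
    · rw [ev7_mul_z h m l3, h3, one_mul]
  · refine ⟨fun i => m i * z, hm', Or.inl ⟨hl', hsp', ?_, ?_⟩⟩
    · rw [ev7_mul_z h m l2, h2, h.zz]
    · rw [ev7_mul_z h m l3, h3, h.zz]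

end

theorem ext_of_dbl {X : Type*} [Group X] {L : Type u} [Group L] {π : L →* X} {c : L} (h : Dbl π c) :
    Ext π c where
  surj := h.surj
  zz := h.sq
  zne := h.ne
  ker := h.ker
  comm := fun x => (h.cen x).symm

theorem exists_nodes {L : Type u} [Group L] [Finite L] {π : L →* Spor.Fi22} {z : L} (hd : Dbl π z) :
    ∃ m : Fin 9 → L, (∀ i, π (m i) = e0 i) ∧ FRels m z := by
  obtain ⟨m, hm, hr | hr⟩ := exists_lifts (ext_of_dbl hd) frels_std
  · exfalso
    obtain ⟨σ, hσ⟩ := hr.exists_hom
    have hs : π.comp σ = MonoidHom.id _ := hom_ext fun i => by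
      show π (σ (e0 i)) = e0 i
      rw [hσ, hm]
    refine hd.toCtr.false_of_compl (P := ⊤) (P₁ := σ.range) (Subgroup.mem_top z) ?_ ?_ ?_
    · rw [Subgroup.index_top]; norm_num
    · rintro ⟨x, hx⟩
      have h1 : π (σ x) = x := DFunLike.congr_fun hs x
      rw [hx, (hd.ker z).2 (Or.inr rfl)] at h1
      rw [← h1, map_one] at hx
      exact hd.ne hx.symm
    · intro x _
      have h1 : π (σ (π x)) = π x := DFunLike.congr_fun hs (π x)
      rcases (ext_of_dbl hd).map_eq.1 h1.symm with h2 | h2
      · exact Or.inl ⟨π x, h2.symm⟩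
      · refine Or.inr ⟨π x, ?_⟩
        have h3 : ∀ y, x = y * z → y = z * x := by
          rintro y rfl
          rw [hd.cen, mul_assoc, hd.sq, mul_one]
        exact h3 _ h2
  · exact ⟨m, hm, hr⟩

/-! ### The commutator -/

/-- `x` -/
def p1 : List (Fin 9) := [7, 2, 0]
/-- `x'` -/
def p2 : List (Fin 9) := [7, 4, 6]
/-- conjugates `WA ^ 9 * x` to the central involution of `D₄` -/
def g1 : List (Fin 9) := [5, 1, 2, 3, 4, 0, 1, 2, 3, 7, 2, 3, 4, 5, 1, 2, 3, 4, 0, 1, 2, 3, 0, 1]
/-- conjugates `WB ^ 9 * x'` to the central involution of `D₄` -/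
def g2 : List (Fin 9) := [5, 6, 4, 5, 3, 4, 1, 2, 3, 7, 4, 5, 6, 1, 2, 3, 4, 5, 2, 3, 4, 1, 2, 3]
/-- conjugates `x` to `x'` -/
def k : List (Fin 9) := [8, 7, 3, 4, 5, 6, 2, 3, 4, 5, 1, 2, 3, 4, 0, 1, 2, 3, 7, 8]
/-- the central involution of `D₄` -/
def d4 : List (Fin 9) := rep 3 [3, 2, 4, 7]

theorem chk1 : chk (g1 ++ rep 9 WA ++ p1) (d4 ++ g1) = true := by decide +kernel
theorem chk2 : chk (g2 ++ rep 9 WB ++ p2) (d4 ++ g2) = true := by decide +kernel
theorem chk3 : chk (k ++ p1) (p2 ++ k) = true := by decide +kernel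
theorem chk4 : chk (p1 ++ p1) [] = true := by decide +kernel

/-- the second entry of the commutator, for any nodes -/
def wd {G : Type*} [Group G] (s : Fin 9 → G) : G := (ev s k)⁻¹ * (ev s g2)⁻¹ * ev s g1

theorem wd_conj {G : Type*} [Group G] {s : Fin 9 → G} {z : G} (h : FRels s z) (hz : ∀ g, g * z = z * g)
    (hzz : z * z = 1) : ev s p1 * ev s p1 = 1 ∧ ⁅ev s p1, wd s⁆ = z := by
  have e1 := ev_eq_ev h.lift chk1
  have e2 := ev_eq_ev h.lift chk2
  have e3 := ev_eq_ev h.lift chk3
  have e4 := ev_eq_ev h.lift chk4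
  simp only [ev_append, ev_rep, h.eA, h.eB, mul_one, ev_nil] at e1 e2 e3 e4
  refine ⟨e4, ?_⟩
  unfold wd
  set A := ev s k
  set B := ev s g2
  set C := ev s g1
  set x := ev s p1
  have f : (A⁻¹ * B⁻¹ * C) * x = x * z * (A⁻¹ * B⁻¹ * C) := by
    calc (A⁻¹ * B⁻¹ * C) * x = A⁻¹ * B⁻¹ * (C * x) := by group
      _ = A⁻¹ * B⁻¹ * (ev s d4 * C) := by rw [e1]
      _ = A⁻¹ * (B⁻¹ * (ev s d4 * B)) * B⁻¹ * C := by group
      _ = A⁻¹ * (B⁻¹ * (B * z * ev s p2)) * B⁻¹ * C := by rw [e2]
      _ = A⁻¹ * (z * ev s p2) * B⁻¹ * C := by group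
      _ = A⁻¹ * (ev s p2 * z) * B⁻¹ * C := by rw [hz (ev s p2)]
      _ = A⁻¹ * (ev s p2 * (A * A⁻¹) * z) * B⁻¹ * C := by rw [mul_inv_cancel, mul_one]
      _ = A⁻¹ * (ev s p2 * A) * (A⁻¹ * z) * B⁻¹ * C := by group
      _ = A⁻¹ * (A * x) * (A⁻¹ * z) * B⁻¹ * C := by rw [e3]
      _ = A⁻¹ * (A * x) * (z * A⁻¹) * B⁻¹ * C := by rw [hz A⁻¹]
      _ = x * z * (A⁻¹ * B⁻¹ * C) := by group
  set w := A⁻¹ * B⁻¹ * C
  have zi : z⁻¹ = z := inv_eq_of_mul_eq_one_left hzz
  calc ⁅x, w⁆ = x * (w * x * w⁻¹)⁻¹ := by rw [commutatorElement_def]; group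
    _ = x * (x * z)⁻¹ := by rw [f, mul_inv_cancel_right]
    _ = x * (z * x)⁻¹ := by rw [hz]
    _ = z := by rw [mul_inv_rev, mul_inv_cancel_left, zi]

theorem wd_map {G H : Type*} [Group G] [Group H] (f : G →* H) (s : Fin 9 → G) : f (wd s) = wd (fun i => f (s i)) := by
  unfold wd
  rw [map_mul, map_mul, map_inv, map_inv, ev_map, ev_map, ev_map]

/-- **The 2-part of the multiplier of `Fi22`.** -/
theorem oneCover : MulBound.OneCover Spor.Fi22 := by
  have h1 := ev_eq_ev frels_std.lift chk4
  rw [ev_append, ev_nil] at h1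
  refine MulBaer.oneCover_of (s := ev e0 p1) (w := wd e0) h1 ?_
  intro K _ _ π c hd x y hx hy
  obtain ⟨m, hm, hr⟩ := exists_nodes hd
  have hc : ∀ g, g * c = c * g := fun g => (hd.cen g).symm
  have hm' : (fun i => π (m i)) = e0 := funext hm
  obtain ⟨-, h2⟩ := wd_conj hr hc hd.sq
  have ex : π x = π (ev m p1) := by rw [hx, ev_map, hm']
  have ey : π y = π (wd m) := by rw [hy, wd_map, hm']
  have key : ∀ a b : K, a = b ∨ a = b * c → ∃ t, (∀ g, g * t = t * g) ∧ a = b * t := by
    rintro a b (rfl | rfl)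
    · exact ⟨1, by simp, by simp⟩
    · exact ⟨c, hc, rfl⟩
  obtain ⟨t, ht, rfl⟩ := key _ _ ((ext_of_dbl hd).map_eq.1 ex)
  obtain ⟨t', ht', rfl⟩ := key _ _ ((ext_of_dbl hd).map_eq.1 ey)
  rw [← h2, commutatorElement_def, commutatorElement_def]
  have hti : ∀ g, g * t⁻¹ = t⁻¹ * g := fun g => by
    rw [mul_inv_eq_iff_eq_mul, mul_assoc, ht g, inv_mul_cancel_left]
  have hti' : ∀ g, g * t'⁻¹ = t'⁻¹ * g := fun g => by
    rw [mul_inv_eq_iff_eq_mul, mul_assoc, ht' g, inv_mul_cancel_left]
  calc ev m p1 * t * (wd m * t') * (ev m p1 * t)⁻¹ * (wd m * t')⁻¹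
      = ev m p1 * (t * (wd m * t') * t⁻¹) * (ev m p1)⁻¹ * t'⁻¹ * (wd m)⁻¹ := by group
    _ = ev m p1 * (wd m * t') * (ev m p1)⁻¹ * t'⁻¹ * (wd m)⁻¹ := by
        rw [← ht (wd m * t'), mul_inv_cancel_right]
    _ = ev m p1 * wd m * (t' * (ev m p1)⁻¹ * t'⁻¹) * (wd m)⁻¹ := by group
    _ = ev m p1 * wd m * (ev m p1)⁻¹ * (wd m)⁻¹ := by rw [← ht' (ev m p1)⁻¹, mul_inv_cancel_right]

/-- The 2-part of the multiplier has order at most 2. -/
theorem card_le_two {X : Type*} [Group X] (e : X ≃* Spor.Fi22) {K : Type u} [Group K] [Finite K]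
    (hK : commutator K = ⊤) {f : K →* X} (hf : Function.Surjective f) (hZ : f.ker ≤ Subgroup.center K)
    (h2 : IsPGroup 2 f.ker) : Nat.card f.ker ≤ 2 := by
  have : Fact (Nat.Prime 2) := ⟨Nat.prime_two⟩
  have h4 := (MulBaer.OneCover.congr oneCover e.symm).not_four_dvd hK hf hZ
  obtain ⟨n, hn⟩ := h2.exists_card_eq
  rw [hn] at h4 ⊢
  rcases Nat.lt_or_ge n 2 with h | h
  · calc 2 ^ n ≤ 2 ^ 1 := Nat.pow_le_pow_right (by norm_num) (by omega)
      _ = 2 := by norm_num
  · exact absurd (pow_dvd_pow 2 h) h4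

end Cfsg.Agent.KFacts.MulEven.Fi22

end
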